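import Cfsg.Agent.J4C.S.Rel

set_option autoImplicit false
set_option Elab.async false
set_option maxRecDepth 100000
set_option linter.all false

namespace Cfsg.Agent.J4C.S
open Cfsg.Agent.CGT

theorem bd0 {G : Type*} [Group G] {γ : ℕ → G} (hR : Holds (ext γ) RR) : Bd (gp γ [0, 2, 4, 6, 8, 10, 12, 14, 16, 18]) 244823040 := J4C.bd0 hR

end Cfsg.Agent.J4C.S
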