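import Cfsg.Agent.J4C.Cert

set_option autoImplicit false
set_option Elab.async false
set_option maxRecDepth 100000
set_option linter.all false

namespace Cfsg.Agent.J4C.S
open Cfsg.Agent.CGT

noncomputable abbrev RR : List (List ℕ) := J4C.RR

end Cfsg.Agent.J4C.S
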